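import Mathlib

/-!
# Submodules of the triple split algebra over a power series ring
-/

set_option autoImplicit false
noncomputable section

namespace Groth.Agent.CrimpTri

universe u

open PowerSeries (X)

variable {k : Type u} [Field k]

local notation "R" => PowerSeries k
local notation "St" => (Fin 3 → PowerSeries k)

/-- residue vector is not constant -/
def Good (f : Fin 3 → PowerSeries k) : Prop :=
  ∃ i j, PowerSeries.constantCoeff (f i) ≠ PowerSeries.constantCoeff (f j)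

theorem mem_sup_X_iff (f : Fin 3 → PowerSeries k) :
    f ∈ Submodule.span R {(1 : St)} ⊔ Ideal.span {(X : R)} • (⊤ : Submodule R St) ↔ ¬ Good f := by
  simp only [Submodule.mem_sup, Submodule.mem_span_singleton, Submodule.ideal_span_singleton_smul, Good, not_exists, not_not]
  constructor
  · rintro ⟨_, ⟨r, rfl⟩, _, ⟨w, -, rfl⟩, rfl⟩ i j
    simp
  · intro h
    refine ⟨_, ⟨PowerSeries.C (PowerSeries.constantCoeff (f 0)), rfl⟩, f - PowerSeries.C (PowerSeries.constantCoeff (f 0)) • (1 : St), ?_, by simp⟩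
    have : ∀ i, ∃ w, X * w = f i - PowerSeries.C (PowerSeries.constantCoeff (f 0)) := fun i => by
      obtain ⟨w, hw⟩ := PowerSeries.X_dvd_iff.2 (show PowerSeries.constantCoeff (f i - PowerSeries.C (PowerSeries.constantCoeff (f 0))) = 0 by simp [h i 0])
      exact ⟨w, hw.symm⟩
    choose w hw using this
    exact ⟨w, trivial, funext fun i => by simp [hw i]⟩

theorem mem_span_pair_sup_iff (g : Fin 3 → PowerSeries k) (n : ℕ) (z : Fin 3 → PowerSeries k) :
    z ∈ Submodule.span R {(1 : St), g} ⊔ Ideal.span {(X : R) ^ n} • (⊤ : Submodule R St) ↔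
      ∃ (a c : R) (w : St), a • 1 + c • g + (X : R) ^ n • w = z := by
  rw [Submodule.mem_sup, Submodule.ideal_span_singleton_smul]
  simp only [Submodule.mem_span_pair]
  constructor
  · rintro ⟨_, ⟨a, c, rfl⟩, _, ⟨w, -, rfl⟩, rfl⟩; exact ⟨a, c, w, rfl⟩
  · rintro ⟨a, c, w, rfl⟩; exact ⟨_, ⟨a, c, rfl⟩, _, ⟨w, trivial, rfl⟩, rfl⟩

/-- a good vector extends to a basis `1, f, e` with linear coordinate functions -/
theorem exists_coords {f : Fin 3 → PowerSeries k} (hf : Good f) :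
    ∃ (e : Fin 3 → PowerSeries k) (β γ : St →ₗ[R] R),
      (β 1 = 0 ∧ γ 1 = 0) ∧ (β f = 1 ∧ γ f = 0) ∧ (β e = 0 ∧ γ e = 1) ∧
      Good e ∧ ∀ s, ∃ a : R, s = a • 1 + β s • f + γ s • e := by
  classical
  obtain ⟨i, j, hij⟩ := hf
  have hne : i ≠ j := fun h => hij (h ▸ rfl)
  obtain ⟨l, hli, hlj⟩ : ∃ l : Fin 3, l ≠ i ∧ l ≠ j := by
    clear hij; revert i j; decide
  have hcov : ∀ p : Fin 3, p = i ∨ p = j ∨ p = l := by
    clear hij; revert i j l; decide
  obtain ⟨u, hu⟩ : ∃ u : R, (f i - f j) * u = 1 :=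
    isUnit_iff_exists_inv.1 (PowerSeries.isUnit_iff_constantCoeff.2 (isUnit_iff_ne_zero.2 (by simpa [sub_eq_zero] using hij)))
  let β : St →ₗ[R] R := u • ((LinearMap.proj i : St →ₗ[R] R) - (LinearMap.proj j : St →ₗ[R] R))
  let γ : St →ₗ[R] R := (LinearMap.proj l : St →ₗ[R] R) - (LinearMap.proj i : St →ₗ[R] R) + (f i - f l) • β
  have hβ : ∀ s : St, β s = u * (s i - s j) := fun s => rfl
  have hγ : ∀ s : St, γ s = s l - s i + (f i - f l) * (u * (s i - s j)) := fun s => rfl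
  refine ⟨Pi.single l 1, β, γ, ⟨by simp [hβ], by simp [hγ]⟩, ⟨?_, ?_⟩, ⟨?_, ?_⟩, ?_, fun s => ⟨s i - β s * f i, ?_⟩⟩
  · rw [hβ]; linear_combination hu
  · rw [hγ]; linear_combination (f i - f l) * hu
  · simp [hβ, hli.symm, hlj.symm]
  · simp [hγ, hli.symm, hlj.symm]
  · exact ⟨l, i, by simp [hli.symm]⟩
  · funext p
    simp only [Pi.add_apply, Pi.smul_apply, Pi.one_apply, smul_eq_mul, hβ, hγ]
    rcases hcov p with rfl | rfl | rfl
    · simp [hli.symm]
    · simp [hlj.symm]; linear_combination (s i - s p) * hu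
    · simp; ring

/-- description of the span by coordinates -/
theorem mem_span_iff_coords {f e : Fin 3 → PowerSeries k} {β γ : St →ₗ[R] R}
    (h1 : β 1 = 0 ∧ γ 1 = 0) (hf : β f = 1 ∧ γ f = 0) (hd : ∀ s, ∃ a : R, s = a • 1 + β s • f + γ s • e)
    {m n : ℕ} (hmn : m ≤ n) (z : Fin 3 → PowerSeries k) :
    z ∈ Submodule.span R {(1 : St), (X : R) ^ m • f} ⊔ Ideal.span {(X : R) ^ n} • (⊤ : Submodule R St) ↔
      (X : R) ^ m ∣ β z ∧ (X : R) ^ n ∣ γ z := by
  rw [mem_span_pair_sup_iff]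
  constructor
  · rintro ⟨a, c, w, rfl⟩
    simp only [map_add, map_smul, h1.1, h1.2, hf.1, hf.2, smul_eq_mul, mul_zero, zero_add, mul_one]
    exact ⟨dvd_add (dvd_mul_left _ _) ((pow_dvd_pow _ hmn).mul_right _), dvd_mul_right _ _⟩
  · rintro ⟨⟨b, hb⟩, ⟨c, hc⟩⟩
    obtain ⟨a, ha⟩ := hd z
    refine ⟨a, b, c • e, ?_⟩
    conv_rhs => rw [ha, hb, hc]
    simp [smul_smul, mul_comm]

end Groth.Agent.CrimpTri
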